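import Groth.Agent.Lib.Omega12.ConormalRank
import Groth.Agent.Lib.RegSmooth17.Scheme
import Groth.Agent.Lib.WeilExt.Regular
import Groth.Agent.Lib.DimF18.Basic
import Groth.Agent.Lib.TopDimLib.Basic
import Groth.Agent.Lib.FibDim14.Basic
import Groth.Agent.Lib.DeligneExt9.Tower

/-!
Regular closed subschemes of nonsingular varieties.
-/

set_option autoImplicit false
set_option backward.isDefEq.respectTransparency false
set_option linter.style.haveILetI false

universe u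

open CategoryTheory CategoryTheory.Limits AlgebraicGeometry TopologicalSpace Opposite TensorProduct

namespace Groth.Agent.RegSub9

section Dim

variable {k : Type u} [Field k] {X : Scheme.{u}} (f : X ⟶ Spec (CommRingCat.of k)) [LocallyOfFiniteType f]
  [IrreducibleSpace X]

/-- The local dimension of an irreducible scheme of finite type over a field is constant. -/
theorem fibreDimAt_eq_dim (x : X) : FlatMor.fibreDimAt f x = topologicalKrullDim X := by
  haveI : IsLocallyNoetherian X := LocallyOfFiniteType.isLocallyNoetherian f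
  let η := genericPoint X
  have hmono : ∀ z : X, VarDim.sdim f z ≤ VarDim.sdim f η := fun z => by
    have h1 : z ≤ η := AlgebraicGeometry.Scheme.le_iff_specializes.2 (genericPoint_specializes z)
    have h2 := Order.height_mono h1
    rw [VarDim.height_eq_sdim f, VarDim.height_eq_sdim f] at h2
    exact_mod_cast h2
  have hloc : ∀ z : X, FlatMor.localDim X z = (VarDim.sdim f η : WithBot ℕ∞) := fun z => by
    obtain ⟨b, hb⟩ := ENat.ne_top_iff_exists.1 (DimF18.coheight_ne_top z)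
    rw [DimF18.localDim_eq f hb.symm]
    have h1 := DimF18.sdim_le_add_coheight f (genericPoint_specializes z)
    rw [← hb] at h1
    obtain ⟨w, -, hw⟩ := DimF18.exists_generization_sdim f hb.symm
    have h2 : VarDim.sdim f η ≤ VarDim.sdim f z + b := by exact_mod_cast h1
    rw [le_antisymm (hw.trans (hmono w)) h2]
  rw [FibDim14.fibreDimAt_eq_localDim_preimage, TopDimLib.dim_eq_iSup_localDim]
  simp only [hloc, ciSup_const]
  have huniv : (f ⁻¹' {f x} : Set X) = Set.univ := Set.eq_univ_of_forall fun y => Subsingleton.elim _ _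
  rw [← hloc x]
  exact (FibDim14.localDim_of_range (B := X) Topology.IsEmbedding.id (T := f ⁻¹' {f x}) (huniv ▸ Set.range_id) x
    rfl rfl).symm

end Dim

section Crit

variable {X' X Y : Scheme.{u}} (j : X' ⟶ X) [IsClosedImmersion j] {f : X ⟶ Y} [Smooth f] {Ω : X.Modules}
  {d : OmegaSh.Der f Ω}

open Groth.Agent.GrMap12 in
set_option maxHeartbeats 1000000 in
/-- An injective conormal map and locally free differentials make the subscheme smooth. -/
theorem formallySmooth_appLE (hd : OmegaSh.IsUniversal d)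
    {φ : Omega.conormal j ⟶ (Scheme.Modules.pullback j).obj Ω} (hφ : OmegaSh.IsConormalDiff j d φ) [Mono φ]
    {Ω' : X'.Modules} {d' : OmegaSh.Der (j ≫ f) Ω'} (hd' : OmegaSh.IsUniversal d') (hfree : FlatMod.IsFinLocFree Ω')
    {U : X.Opens} (hU : IsAffineOpen U) {V : Y.Opens} (hV : IsAffineOpen V) (hUV : U ≤ f ⁻¹ᵁ V) :
    ((j ≫ f).appLE V (j ⁻¹ᵁ U) (j.preimage_mono hUV)).hom.FormallySmooth := by
  have hU' : IsAffineOpen (j ⁻¹ᵁ U) := hU.preimage j
  letI a1 : Algebra Γ(Y, V) Γ(X, U) := (f.appLE V U hUV).hom.toAlgebra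
  letI a2 : Algebra Γ(X, U) Γ(X', j ⁻¹ᵁ U) := (j.appLE U (j ⁻¹ᵁ U) le_rfl).hom.toAlgebra
  letI a3 : Algebra Γ(Y, V) Γ(X', j ⁻¹ᵁ U) := ((j ≫ f).appLE V (j ⁻¹ᵁ U) (j.preimage_mono hUV)).hom.toAlgebra
  haveI : IsScalarTower Γ(Y, V) Γ(X, U) Γ(X', j ⁻¹ᵁ U) := IsScalarTower.of_algebraMap_eq fun r => by
    show ((j ≫ f).appLE V (j ⁻¹ᵁ U) _) r = (f.appLE V U hUV ≫ j.appLE U (j ⁻¹ᵁ U) le_rfl) r
    rw [Scheme.Hom.appLE_comp_appLE]
  haveI : Algebra.Smooth Γ(Y, V) Γ(X, U) := f.smooth_appLE hV hU hUV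
  haveI : Module.Projective Γ(X', j ⁻¹ᵁ U) (KaehlerDifferential Γ(Y, V) Γ(X', j ⁻¹ᵁ U)) :=
    haveI := DeligneExt9.projective_sections hfree hU'
    Module.Projective.of_equiv (Omega12.sectLinEquiv (j ≫ f) hd' hU' hV (j.preimage_mono hUV)).symm
  have hsurj : Function.Surjective (algebraMap Γ(X, U) Γ(X', j ⁻¹ᵁ U)) := by
    show Function.Surjective (j.appLE U (j ⁻¹ᵁ U) le_rfl)
    rw [← Scheme.Hom.app_eq_appLE]
    exact j.app_surjective U hU
  let I := RingHom.ker (algebraMap Γ(X, U) Γ(X', j ⁻¹ᵁ U))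
  have hinj : Function.Injective (KaehlerDifferential.kerCotangentToTensor Γ(Y, V) Γ(X, U) Γ(X', j ⁻¹ᵁ U)) := by
    let N₁ := (Scheme.Modules.pullback j).obj (ClSub.idealMod j.ker)
    let N₂ := (Scheme.Modules.pullback j).obj Ω
    letI := PullBC11.baseModule (g := j) N₁ (le_rfl : j ⁻¹ᵁ U ≤ _)
    haveI : IsScalarTower Γ(X, U) Γ(X', j ⁻¹ᵁ U) Γ(N₁, j ⁻¹ᵁ U) := IsScalarTower.of_algebraMap_smul fun _ _ => rfl
    letI := PullBC11.baseModule (g := j) N₂ (le_rfl : j ⁻¹ᵁ U ≤ _)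
    haveI : IsScalarTower Γ(X, U) Γ(X', j ⁻¹ᵁ U) Γ(N₂, j ⁻¹ᵁ U) := IsScalarTower.of_algebraMap_smul fun _ _ => rfl
    have hBC₁ : IsBaseChange Γ(X', j ⁻¹ᵁ U) (PullBC11.sect (PP12.unitTo j (ClSub.idealMod j.ker)) (le_rfl : j ⁻¹ᵁ U ≤ _)) :=
      PP12.isBC_unit j (M2.isQCoh_idealMod _) hU hU' le_rfl
    have hBC₂ : IsBaseChange Γ(X', j ⁻¹ᵁ U) (PullBC11.sect (PP12.unitTo j Ω) (le_rfl : j ⁻¹ᵁ U ≤ _)) :=
      PP12.isBC_unit j (Omega12.isQCoh_receptacle f hd) hU hU' le_rfl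
    let eO := Omega12.sectLinEquiv f hd hU hV hUV
    let E₂ := (LinearEquiv.baseChange Γ(X, U) Γ(X', j ⁻¹ᵁ U) _ _ eO).trans hBC₂.equiv
    have e0 : ∀ {A : Scheme.{u}} (G : A.Modules) (O : A.Opens) (t : Γ(G, O)), M1.mres G (le_rfl : O ≤ O) t = t :=
      fun G O t => ConcreteCategory.congr_hom (G.presheaf.map_id (op O)) t
    have hr : LinearMap.range (inclLin j.ker U) = I := by
      rw [range_inclLin _ ⟨U, hU⟩, Scheme.Hom.ker_apply]
      show RingHom.ker (j.app U).hom = RingHom.ker (j.appLE U (j ⁻¹ᵁ U) le_rfl).hom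
      rw [Scheme.Hom.app_eq_appLE]
    refine (injective_iff_map_eq_zero _).2 fun z hz => ?_
    obtain ⟨⟨b, hb⟩, rfl⟩ := Ideal.toCotangent_surjective _ z
    rw [KaehlerDifferential.kerCotangentToTensor_toCotangent] at hz
    obtain ⟨m, hm⟩ := hr.ge hb
    have h1 : φ.app (j ⁻¹ᵁ U) (PullBC11.sect (PP12.unitTo j (ClSub.idealMod j.ker)) (le_rfl : j ⁻¹ᵁ U ≤ _) m) =
        E₂ ((1 : Γ(X', j ⁻¹ᵁ U)) ⊗ₜ KaehlerDifferential.D Γ(Y, V) Γ(X, U) (inclLin j.ker U m)) := by
      show φ.app (j ⁻¹ᵁ U) (M1.mres N₁ le_rfl (OmegaSh.conormalSect j U m)) =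
        hBC₂.equiv ((1 : Γ(X', j ⁻¹ᵁ U)) ⊗ₜ eO (KaehlerDifferential.D Γ(Y, V) Γ(X, U) (inclLin j.ker U m)))
      rw [hBC₂.equiv_tmul, one_smul, e0, hφ U m, Omega12.sectLinEquiv_D]
      exact (e0 N₂ _ _).symm
    have hm' : hBC₁.equiv ((1 : Γ(X', j ⁻¹ᵁ U)) ⊗ₜ m) = 0 := by
      rw [hBC₁.equiv_tmul, one_smul]
      refine Omega12.injective_app_of_mono' φ (j ⁻¹ᵁ U) ?_
      rw [h1, hm]
      show E₂ ((1 : Γ(X', j ⁻¹ᵁ U)) ⊗ₜ KaehlerDifferential.D Γ(Y, V) Γ(X, U) b) = _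
      rw [hz, map_zero]
      simp
    have hm0 := hBC₁.equiv.map_eq_zero_iff.1 hm'
    -- back to the cotangent module
    let σ := Function.surjInv hsurj
    have hσ : ∀ c, algebraMap Γ(X, U) Γ(X', j ⁻¹ᵁ U) (σ c) = c := Function.surjInv_eq hsurj
    have hkill : ∀ r s : Γ(X, U), algebraMap Γ(X, U) Γ(X', j ⁻¹ᵁ U) r = algebraMap Γ(X, U) Γ(X', j ⁻¹ᵁ U) s →
        ∀ x : I.Cotangent, r • x = s • x := fun r s h x => by
      obtain ⟨y, rfl⟩ := Ideal.toCotangent_surjective _ x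
      rw [← sub_eq_zero, ← sub_smul, ← map_smul, Ideal.toCotangent_eq_zero, pow_two]
      refine Ideal.mul_mem_mul ?_ y.2
      show r - s ∈ RingHom.ker _
      rw [RingHom.mem_ker, map_sub, h, sub_self]
    let inclI : Γ(ClSub.idealMod j.ker, U) →ₗ[Γ(X, U)] I :=
      (inclLin j.ker U).codRestrict I fun y => hr.le ⟨y, rfl⟩
    let L : Γ(ClSub.idealMod j.ker, U) →ₗ[Γ(X, U)] I.Cotangent := I.toCotangent.comp inclI
    let Φ : Γ(X', j ⁻¹ᵁ U) ⊗[Γ(X, U)] Γ(ClSub.idealMod j.ker, U) →+ I.Cotangent := TensorProduct.liftAddHom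
      (AddMonoidHom.mk' (fun c => AddMonoidHom.mk' (fun y => σ c • L y) fun y y' => by rw [map_add, smul_add])
        fun c c' => by
          ext y
          show σ (c + c') • L y = σ c • L y + σ c' • L y
          rw [← add_smul]
          exact hkill _ _ (by rw [map_add, hσ, hσ, hσ]) _)
      fun r c y => by
        show σ (r • c) • L y = σ c • L (r • y)
        rw [map_smul, smul_smul]
        exact hkill _ _ (by rw [map_mul, hσ, hσ, Algebra.smul_def, mul_comm]) _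
    have h3 : Φ ((1 : Γ(X', j ⁻¹ᵁ U)) ⊗ₜ m) = Φ 0 := congrArg Φ hm0
    rw [map_zero] at h3
    change σ 1 • L m = 0 at h3
    rw [hkill (σ 1) 1 (by rw [hσ, map_one]), one_smul] at h3
    rw [← h3]
    exact congrArg I.toCotangent (Subtype.ext hm.symm)
  refine RingHom.formallySmooth_algebraMap.2 ?_
  rw [Algebra.formallySmooth_iff]
  exact ⟨inferInstance, (Algebra.FormallySmooth.kerCotangentToTensor_injective_iff hsurj).1 hinj⟩

end Crit

set_option maxHeartbeats 1000000 in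
theorem regular_iff (k : Type u) [Field k] [IsAlgClosed k] (n q : ℕ) {X : Scheme.{u}}
    (f : X ⟶ Spec (CommRingCat.of k)) [IsIntegral X] [LocallyOfFiniteType f]
    (hreg : ∀ x : X, IsRegularLocalRing (X.presheaf.stalk x)) (hn : topologicalKrullDim X = (n : WithBot ℕ∞))
    {Y : Scheme.{u}} (i : Y ⟶ X) [IsClosedImmersion i] [IrreducibleSpace Y]
    (hq : topologicalKrullDim Y = (q : WithBot ℕ∞))
    {ΩX : X.Modules} {dX : OmegaSh.Der f ΩX} (hX : OmegaSh.IsUniversal dX)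
    {ΩY : Y.Modules} {dY : OmegaSh.Der (i ≫ f) ΩY} (hY : OmegaSh.IsUniversal dY)
    {φ : Omega.conormal i ⟶ (Scheme.Modules.pullback i).obj ΩX} (hφ : OmegaSh.IsConormalDiff i dX φ) :
    ((∀ y : Y, IsRegularLocalRing (Y.presheaf.stalk y)) ↔ (FlatMod.IsFinLocFree ΩY ∧ Mono φ)) ∧
      ((∀ y : Y, IsRegularLocalRing (Y.presheaf.stalk y)) →
        FlatMod.IsFinLocFreeOfRank (n - q) (Omega.conormal i)) := by
  haveI : IsLocallyNoetherian X := LocallyOfFiniteType.isLocallyNoetherian f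
  haveI : LocallyOfFinitePresentation f := inferInstance
  haveI : AlgebraicGeometry.Smooth f := RegSmooth17.smooth_of_regular_of_perfectField f hreg
  have hsm : (∀ y : Y, IsRegularLocalRing (Y.presheaf.stalk y)) → AlgebraicGeometry.Smooth (i ≫ f) := fun h => by
    haveI : LocallyOfFiniteType (i ≫ f) := inferInstance
    exact RegSmooth17.smooth_of_regular_of_perfectField _ h
  refine ⟨⟨fun h => ?_, fun h => ?_⟩, fun h => ?_⟩
  · haveI := hsm h
    exact ⟨Omega12.isFinLocFree_receptacle_of_smooth (i ≫ f) hY,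
      GrMap12.mono_conormalDiff_of_formallySmooth (SmoothLift15.isFormallySmoothHom_of_smooth (i ≫ f)) hX hφ⟩
  · obtain ⟨hfree, hmono⟩ := h
    haveI := hmono
    haveI : LocallyOfFiniteType (i ≫ f) := inferInstance
    have hsmY : AlgebraicGeometry.Smooth (i ≫ f) := by
      rw [HasRingHomProperty.iff_exists_appLE (P := @AlgebraicGeometry.Smooth)
        (RingHom.Smooth.stableUnderComposition.stableUnderCompositionWithLocalizationAway
          RingHom.Smooth.holdsForLocalizationAway).left]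
      intro y
      obtain ⟨V, hV, hfy, -⟩ := exists_isAffineOpen_mem_and_subset (X := Spec (CommRingCat.of k))
        (x := f (i y)) (U := ⊤) trivial
      obtain ⟨U, hU, hyU, hUV⟩ := exists_isAffineOpen_mem_and_subset (X := X) (x := i y) (U := f ⁻¹ᵁ V) hfy
      refine ⟨⟨V, hV⟩, ⟨i ⁻¹ᵁ U, hU.preimage i⟩, hyU, i.preimage_mono hUV, ?_⟩
      rw [RingHom.smooth_def]
      refine ⟨formallySmooth_appLE i hX hφ hY hfree hU hV hUV, ?_⟩
      exact HasRingHomProperty.appLE @LocallyOfFinitePresentation (i ≫ f) inferInstance ⟨V, hV⟩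
        ⟨i ⁻¹ᵁ U, hU.preimage i⟩ (i.preimage_mono hUV)
    intro y
    exact WeilExt.isRegularLocalRing_of_smooth (i ≫ f) (WeilExt.isRegularLocalRing_stalk_Spec _) y
  · haveI := hsm h
    intro y
    obtain ⟨U, a, hyU, hiso, ha⟩ := Omega12.exists_conormal_rank f i y
    rw [fibreDimAt_eq_dim f, fibreDimAt_eq_dim (i ≫ f), hn, hq] at ha
    have h1 : n = q + a := by exact_mod_cast ha
    obtain rfl : a = n - q := by omega
    exact ⟨U, hyU, hiso⟩

end Groth.Agent.RegSub9
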